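import Cfsg.Agent.L0.PcCert
import Cfsg.Agent.L0.Dw
import Cfsg.Agent.H3.Mu.U62.Tab

/-! Generated certificate: the `3`-part of a Schur multiplier. -/

set_option autoImplicit false
set_option maxRecDepth 100000

open Cfsg.Agent.L0

namespace Cfsg.Agent.H3.U62.P3

noncomputable def W : List (List ℕ) := [
  dw (nat_lit 5) (nat_lit 31) (nat_lit 10) (nat_lit 0x12540c30010a0),
  dw (nat_lit 5) (nat_lit 31) (nat_lit 11) (nat_lit 0x11010296181460),
  dw (nat_lit 5) (nat_lit 31) (nat_lit 9) (nat_lit 0xf00c8008c83),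
  dw (nat_lit 5) (nat_lit 31) (nat_lit 10) (nat_lit 0x132a0181820),
  dw (nat_lit 5) (nat_lit 31) (nat_lit 9) (nat_lit 0x418085614c1),
  dw (nat_lit 5) (nat_lit 31) (nat_lit 12) (nat_lit 0x9587088605a020),
  dw (nat_lit 5) (nat_lit 31) (nat_lit 10) (nat_lit 0x170500a142ce1),
  dw (nat_lit 5) (nat_lit 31) (nat_lit 11) (nat_lit 0x830158808c83),
  dw (nat_lit 5) (nat_lit 31) (nat_lit 9) (nat_lit 0xf4002b0200d)]

noncomputable def P : PcP := ⟨nat_lit 3, nat_lit 2, nat_lit 5, nat_lit 0x1001001001001000005004006004000010016010000041041001180000, nat_lit 12, nat_lit 4095, nat_lit 12, nat_lit 4095, nat_lit 9, nat_lit 39, nat_lit 6, nat_lit 6⟩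

noncomputable def fu : Fus := ⟨[nat_lit 1024, nat_lit 256, nat_lit 64, nat_lit 16, nat_lit 4, nat_lit 1, nat_lit 1024, nat_lit 256, nat_lit 64, nat_lit 16, nat_lit 4, nat_lit 1, nat_lit 1024, nat_lit 256, nat_lit 64, nat_lit 16, nat_lit 4, nat_lit 1],
  [nat_lit 2113, nat_lit 1280, nat_lit 128, nat_lit 25, nat_lit 5, nat_lit 1, nat_lit 1088, nat_lit 357, nat_lit 64, nat_lit 40, nat_lit 9, nat_lit 1, nat_lit 17, nat_lit 520, nat_lit 9, nat_lit 1025, nat_lit 128, nat_lit 2],
  [nat_lit 6, nat_lit 6, nat_lit 6, nat_lit 6, nat_lit 6, nat_lit 6, nat_lit 7, nat_lit 7, nat_lit 7, nat_lit 7, nat_lit 7, nat_lit 7, nat_lit 8, nat_lit 8, nat_lit 8, nat_lit 8, nat_lit 8, nat_lit 8]⟩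

noncomputable def lam : List ℕ := [nat_lit 0x7000000000008000007000000000000000000000000000007000008000007008,
  nat_lit 0x7000000000007000007000000000000000000000000000000000000000008000000007008000000007000000000007000000000008008000000,
  nat_lit 0x5000,
  nat_lit 0x7000000000000000000000000000008007007000000007008000000000000008000007000000000007000000000,
  nat_lit 0x3000000000003000003000000000000000000000000000000000000000006000000003006000000003000000000004000000000006004000000,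
  nat_lit 0x3000000000003000003000000000000000000000000000000000000000006000000003006000000003000000000003000000000006007000000]

noncomputable def bs : List ℕ := [nat_lit 0x1000000000000000000000004003000000]

noncomputable def mo : List ℕ := [nat_lit 0x1a67d67b68344a]

noncomputable def cv0 : List ℕ := [nat_lit 0x1000000000000000000000000000000000000000000000000,
  nat_lit 0x3000000000000000000,
  nat_lit 0x3000000000000000000000000000000,
  nat_lit 0x3000000000000000000000000000000000000000000000,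
  nat_lit 0x3000000000000000000000000,
  nat_lit 0x3000000000000000000000000000000000000,
  nat_lit 0x3000000000000000000000000000000000000000000000000000,
  nat_lit 0x3000000000000000000000000000000000000000000000000000000,
  nat_lit 0x3000000000000000000000000000000000000000000000000000000000,
  nat_lit 0x1000000000000000000000000000000000000000000000000000000,
  nat_lit 0x1000000000000000000000000000000000000000000000000000000000,
  nat_lit 0x1000000000000000000000000000000000000000000000,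
  nat_lit 0x1000000000000000000000000000000000000000000000000000,
  nat_lit 0x1000000000000003000000000000000000000000000000000003000000000,
  nat_lit 0x1000003000000000000003000000000000000000000000000000000000000,
  nat_lit 0x8000000006000000000000000000000000000000000000006000000000000,
  nat_lit 0x7006000000000000000000000006000000000000000000000000000000000,
  nat_lit 0x1001007000000000000008000000000000000000000000000000000000,
  nat_lit 0x1000000001000002000000000000000000000000000002000003000003000,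
  nat_lit 0x5000002000000007000001000007000000000000000000000000,
  nat_lit 0x6007005000000000008006000000000000000006000000000000000000000,
  nat_lit 0x3000000000000000000000000000000000000000000000000000000000000000000000000000000,
  nat_lit 0x3000000000000000000000000000000000000000000000000000001000000000000000,
  nat_lit 0x3000000000000001003000000000000000000000000000000000000000000000000000000000,
  nat_lit 0x8000001000002000000001000001000000000000000000000000000000,
  nat_lit 0x7000000000000000000000000000001001000000000000001000000000000000000000000000000,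
  nat_lit 0x8000000000000000001000000002002000000000000000000000000000000000001002000000000,
  nat_lit 0x3000000000002005002000000000002003000000000000000000000000000000000000000,
  nat_lit 0x7008001000002000000002000004000001000001000000000000000000,
  nat_lit 0x3003000000004000004000000000000000000000000000001000006000000001,
  nat_lit 0x3000000000000000000000000000000000000000000000000000000000000000000000000000000000000000,
  nat_lit 0x3000000000000000000000000000000000000000000000000000000000000000000000000000000000000000000000000,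
  nat_lit 0x8000000000000000000000000000000000000000000001000000000000000000000000000000000000000000000000000,
  nat_lit 0x3000000000000000000001000000002000001000000000000000000000000000001000003000000000,
  nat_lit 0x3000000000000000000000000000000001006000000000000001000000000000000000000000000000000000000000,
  nat_lit 0x3000000000000000000000000000002004005000000000002006000000000001000000000000000000000000000,
  nat_lit 0x7000000000000000000000000000000000002002003002001000000004002001000000000000000000000000000000000,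
  nat_lit 0x3000000000000000000000000000000000000000000000000000000000000000000008000000000000000000000000002000000000000000,
  nat_lit 0x3000000000000000000000000000000000000000000000000000001000000000000000000000000000000000000000000000000000000000000,
  nat_lit 0x3000000000000000000000000000000000000001000003000000000000000000000000001000000000000000000000000008]

noncomputable def cc0 : List Con := [
  ⟨nat_lit 1, nat_lit 1, nat_lit 1, [nat_lit 256], [], nthN cv0 (nat_lit 0)⟩,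
  ⟨nat_lit 1, nat_lit 0, nat_lit 0, [nat_lit 16], [], nthN cv0 (nat_lit 1)⟩,
  ⟨nat_lit 1, nat_lit 0, nat_lit 0, [nat_lit 4], [], nthN cv0 (nat_lit 2)⟩,
  ⟨nat_lit 1, nat_lit 0, nat_lit 0, [nat_lit 1], [], nthN cv0 (nat_lit 3)⟩,
  ⟨nat_lit 1, nat_lit 2, nat_lit 2, [nat_lit 16], [], nthN cv0 (nat_lit 4)⟩,
  ⟨nat_lit 1, nat_lit 2, nat_lit 2, [nat_lit 4], [], nthN cv0 (nat_lit 5)⟩,
  ⟨nat_lit 1, nat_lit 2, nat_lit 2, [nat_lit 1], [], nthN cv0 (nat_lit 6)⟩,
  ⟨nat_lit 1, nat_lit 3, nat_lit 3, [nat_lit 1], [], nthN cv0 (nat_lit 7)⟩,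
  ⟨nat_lit 1, nat_lit 4, nat_lit 4, [nat_lit 1], [], nthN cv0 (nat_lit 8)⟩,
  ⟨nat_lit 0, nat_lit 0, nat_lit 2, [nat_lit 16], [], nthN cv0 (nat_lit 9)⟩,
  ⟨nat_lit 0, nat_lit 0, nat_lit 2, [nat_lit 4], [], nthN cv0 (nat_lit 10)⟩,
  ⟨nat_lit 0, nat_lit 0, nat_lit 3, [nat_lit 4], [], nthN cv0 (nat_lit 11)⟩,
  ⟨nat_lit 0, nat_lit 2, nat_lit 3, [nat_lit 4], [], nthN cv0 (nat_lit 12)⟩,
  ⟨nat_lit 1, nat_lit 0, nat_lit 0, [nat_lit 64], [], nthN cv0 (nat_lit 13)⟩,
  ⟨nat_lit 1, nat_lit 3, nat_lit 3, [nat_lit 4], [], nthN cv0 (nat_lit 14)⟩,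
  ⟨nat_lit 0, nat_lit 1, nat_lit 2, [nat_lit 64, nat_lit 64], [], nthN cv0 (nat_lit 15)⟩,
  ⟨nat_lit 0, nat_lit 1, nat_lit 4, [nat_lit 4, nat_lit 4], [], nthN cv0 (nat_lit 16)⟩,
  ⟨nat_lit 0, nat_lit 1, nat_lit 2, [nat_lit 16], [], nthN cv0 (nat_lit 17)⟩,
  ⟨nat_lit 1, nat_lit 0, nat_lit 0, [nat_lit 256], [], nthN cv0 (nat_lit 18)⟩,
  ⟨nat_lit 0, nat_lit 0, nat_lit 1, [nat_lit 16], [], nthN cv0 (nat_lit 19)⟩,
  ⟨nat_lit 0, nat_lit 1, nat_lit 3, [nat_lit 16, nat_lit 16], [], nthN cv0 (nat_lit 20)⟩,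
  ⟨nat_lit 2, nat_lit 6, nat_lit 0, [nat_lit 5, nat_lit 5, nat_lit 5], [], nthN cv0 (nat_lit 21)⟩,
  ⟨nat_lit 2, nat_lit 6, nat_lit 0, [nat_lit 2, nat_lit 2, nat_lit 2], [], nthN cv0 (nat_lit 22)⟩,
  ⟨nat_lit 2, nat_lit 6, nat_lit 0, [nat_lit 4, nat_lit 4, nat_lit 4], [], nthN cv0 (nat_lit 23)⟩,
  ⟨nat_lit 2, nat_lit 6, nat_lit 0, [nat_lit 4, nat_lit 0], [nat_lit 0, nat_lit 4], nthN cv0 (nat_lit 24)⟩,
  ⟨nat_lit 2, nat_lit 6, nat_lit 0, [nat_lit 4, nat_lit 1], [nat_lit 1, nat_lit 4, nat_lit 5, nat_lit 5], nthN cv0 (nat_lit 25)⟩,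
  ⟨nat_lit 2, nat_lit 6, nat_lit 0, [nat_lit 2, nat_lit 1], [nat_lit 1, nat_lit 2, nat_lit 5], nthN cv0 (nat_lit 26)⟩,
  ⟨nat_lit 2, nat_lit 6, nat_lit 0, [nat_lit 3, nat_lit 3, nat_lit 3], [], nthN cv0 (nat_lit 27)⟩,
  ⟨nat_lit 2, nat_lit 6, nat_lit 0, [nat_lit 3, nat_lit 0], [nat_lit 0, nat_lit 3], nthN cv0 (nat_lit 28)⟩,
  ⟨nat_lit 2, nat_lit 6, nat_lit 0, [nat_lit 0, nat_lit 0, nat_lit 0], [], nthN cv0 (nat_lit 29)⟩,
  ⟨nat_lit 2, nat_lit 7, nat_lit 0, [nat_lit 8, nat_lit 8, nat_lit 8], [], nthN cv0 (nat_lit 30)⟩,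
  ⟨nat_lit 2, nat_lit 7, nat_lit 0, [nat_lit 11, nat_lit 11, nat_lit 11], [], nthN cv0 (nat_lit 31)⟩,
  ⟨nat_lit 2, nat_lit 7, nat_lit 0, [nat_lit 8, nat_lit 6], [nat_lit 6, nat_lit 8, nat_lit 11], nthN cv0 (nat_lit 32)⟩,
  ⟨nat_lit 2, nat_lit 7, nat_lit 0, [nat_lit 6, nat_lit 6, nat_lit 6], [], nthN cv0 (nat_lit 33)⟩,
  ⟨nat_lit 2, nat_lit 7, nat_lit 0, [nat_lit 10, nat_lit 10, nat_lit 10], [], nthN cv0 (nat_lit 34)⟩,
  ⟨nat_lit 2, nat_lit 7, nat_lit 0, [nat_lit 9, nat_lit 9, nat_lit 9], [], nthN cv0 (nat_lit 35)⟩,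
  ⟨nat_lit 2, nat_lit 7, nat_lit 0, [nat_lit 10, nat_lit 7], [nat_lit 7, nat_lit 10, nat_lit 11, nat_lit 11], nthN cv0 (nat_lit 36)⟩,
  ⟨nat_lit 2, nat_lit 8, nat_lit 0, [nat_lit 16, nat_lit 16, nat_lit 16], [], nthN cv0 (nat_lit 37)⟩,
  ⟨nat_lit 2, nat_lit 8, nat_lit 0, [nat_lit 17, nat_lit 17, nat_lit 17], [], nthN cv0 (nat_lit 38)⟩,
  ⟨nat_lit 2, nat_lit 8, nat_lit 0, [nat_lit 12, nat_lit 12, nat_lit 12], [], nthN cv0 (nat_lit 39)⟩]

theorem con0 : allL cc0 (P.conOk fu) = true := by decide +kernel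

noncomputable def cv1 : List ℕ := [nat_lit 0x3000000000000000000000000000000000000000000000001000000000000003000000000000000008000000000000000000000000001,
  nat_lit 0x3000000000000000000000000000000000000000000001006000000000000002000000000000000000000000008000000000000000,
  nat_lit 0x8000000000000000000000000000000000000000000000000000000000000008000000000008000000000000000000000000000002000000000,
  nat_lit 0x8000000000003000000000000000000000000000000000000000004008000000004000002000000006000000000000000000000000001000000]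

noncomputable def cc1 : List Con := [
  ⟨nat_lit 2, nat_lit 8, nat_lit 0, [nat_lit 15, nat_lit 15, nat_lit 15], [], nthN cv1 (nat_lit 0)⟩,
  ⟨nat_lit 2, nat_lit 8, nat_lit 0, [nat_lit 14, nat_lit 14, nat_lit 14], [], nthN cv1 (nat_lit 1)⟩,
  ⟨nat_lit 2, nat_lit 8, nat_lit 0, [nat_lit 16, nat_lit 15], [nat_lit 15, nat_lit 16, nat_lit 17], nthN cv1 (nat_lit 2)⟩,
  ⟨nat_lit 2, nat_lit 8, nat_lit 0, [nat_lit 13, nat_lit 13, nat_lit 13], [nat_lit 17], nthN cv1 (nat_lit 3)⟩]

theorem con1 : allL cc1 (P.conOk fu) = true := by decide +kernel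

noncomputable def CV : List (List ℕ) := [cv0, cv1]

noncomputable def MU : List (List ℕ) := [[nat_lit 0x111f249ddc359ca61071f6517],
  [nat_lit 0,
  nat_lit 0],
  [nat_lit 0x2f00f31e3380a713aebe454f2e7a6154ab60,
  nat_lit 0x2f00f31e3380a8b1953fd868fb22c474f80f,
  nat_lit 0x4afd3689df6fd46a],
  [nat_lit 0x79c104653298f5e8a171d535,
  nat_lit 0,
  nat_lit 0x26018a19eb6792c44095f,
  nat_lit 0x8ad78c1ced8282b4daeebdaa014cd],
  [nat_lit 0x4c02ab030deb5cd9ee16b,
  nat_lit 0x1780798f19c05389d75f22a7973d30aa55af,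
  nat_lit 0x215432723df63f3,
  nat_lit 0x1151321aa5cd469590e3f7fef810138b1c11,
  nat_lit 0x46816d2277b15b7470134d6c343309e0d4ac],
  [nat_lit 0x20e10e5c708,
  nat_lit 0x48,
  nat_lit 0x127e9813ff48,
  nat_lit 0x67ea0dc88,
  nat_lit 0x3a73a7c0c8,
  nat_lit 0x46816cad4d40fa9d861d67f6b1ae6d3eac82]]

noncomputable def lv : List (List (List ℕ) × ℕ × List (ℕ × List ℕ)) := [
  ([[nat_lit 1], [nat_lit 2], [nat_lit 4], [nat_lit 5]], nat_lit 0, [(nat_lit 0, []), (nat_lit 2, [nat_lit 2, nat_lit 1]), (nat_lit 4, [nat_lit 2, nat_lit 2, nat_lit 1, nat_lit 1]), (nat_lit 7, [nat_lit 1, nat_lit 0, nat_lit 2]), (nat_lit 10, [nat_lit 2, nat_lit 0, nat_lit 2]), (nat_lit 18, [nat_lit 3, nat_lit 2, nat_lit 2, nat_lit 1, nat_lit 1]), (nat_lit 25, [nat_lit 2, nat_lit 0, nat_lit 1, nat_lit 1, nat_lit 0]), (nat_lit 26, [nat_lit 3, nat_lit 3, nat_lit 2, nat_lit 2, nat_lit 1, nat_lit 1]), (nat_lit 28, [nat_lit 2, nat_lit 2, nat_lit 1, nat_lit 0, nat_lit 0]), (nat_lit 29, [nat_lit 3,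 nat_lit 0, nat_lit 0]), (nat_lit 41, [nat_lit 1, nat_lit 0, nat_lit 1]), (nat_lit 53, [nat_lit 2, nat_lit 2, nat_lit 1, nat_lit 0, nat_lit 1, nat_lit 0]), (nat_lit 55, [nat_lit 3, nat_lit 3, nat_lit 0, nat_lit 0]), (nat_lit 59, [nat_lit 2, nat_lit 0, nat_lit 1, nat_lit 0]), (nat_lit 66, [nat_lit 2, nat_lit 2, nat_lit 0]), (nat_lit 117, [nat_lit 0, nat_lit 2, nat_lit 2]), (nat_lit 134, [nat_lit 0, nat_lit 0]), (nat_lit 142, [nat_lit 1, nat_lit 0]), (nat_lit 154, [nat_lit 2, nat_lit 1, nat_lit 1, nat_lit 0]), (nat_lit 157, [nat_lit 3, nat_lit 3, nat_lit 1]), (nat_lit 173, [nat_lit 3, nat_lit 2]), (nat_lit 237, [nat_lit 1, nat_lit 1, nat_lit 0]), (nat_lit 253, [nat_lit 2, nat_lit 2]), (nat_lit 276, [nat_lit 2, nat_lit 2, nat_lit 0, nat_lit 1]), (nat_lit 280, [nat_lit 3, nat_lit 2, nat_lit 1]), (nat_lit 285, [nat_lit 3, nat_lit 2, nat_lit 2, nat_lit 1]), (nat_lit 288, [nat_lit 3, nat_lit 1, nat_lit 1]), (nat_lit 300, [nat_lit 3, nat_lit 3, nat_lit 2, nat_lit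 1, nat_lit 1]), (nat_lit 303, [nat_lit 1, nat_lit 0, nat_lit 2, nat_lit 0]), (nat_lit 304, [nat_lit 2, nat_lit 2, nat_lit 1, nat_lit 0]), (nat_lit 311, [nat_lit 2, nat_lit 1, nat_lit 0, nat_lit 1, nat_lit 0]), (nat_lit 312, [nat_lit 0, nat_lit 0, nat_lit 2]), (nat_lit 319, [nat_lit 3, nat_lit 3, nat_lit 2, nat_lit 1]), (nat_lit 322, [nat_lit 2, nat_lit 2, nat_lit 1]), (nat_lit 324, [nat_lit 0, nat_lit 2, nat_lit 2, nat_lit 1]), (nat_lit 342, [nat_lit 3, nat_lit 3, nat_lit 0]), (nat_lit 354, [nat_lit 3, nat_lit 3, nat_lit 2, nat_lit 2]), (nat_lit 361, [nat_lit 0, nat_lit 2, nat_lit 2, nat_lit 0]), (nat_lit 363, [nat_lit 1, nat_lit 0, nat_lit 1, nat_lit 0]), (nat_lit 364, [nat_lit 2]), (nat_lit 396, [nat_lit 3, nat_lit 0]), (nat_lit 413, [nat_lit 3, nat_lit 2, nat_lit 2]), (nat_lit 432, [nat_lit 2, nat_lit 2, nat_lit 1, nat_lit 0, nat_lit 1]), (nat_lit 434, [nat_lit 3]), (nat_lit 454, [nat_lit 1, nat_lit 1]), (nat_lit 460, [nat_lit 3, nat_lit 3, nat_lit 2]),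 (nat_lit 463, [nat_lit 2, nat_lit 1, nat_lit 0]), (nat_lit 478, [nat_lit 0, nat_lit 2, nat_lit 2, nat_lit 1, nat_lit 0]), (nat_lit 496, [nat_lit 2, nat_lit 1, nat_lit 0, nat_lit 0]), (nat_lit 505, [nat_lit 2, nat_lit 1, nat_lit 0, nat_lit 1]), (nat_lit 522, [nat_lit 1, nat_lit 1, nat_lit 0, nat_lit 0]), (nat_lit 538, [nat_lit 3, nat_lit 3]), (nat_lit 540, [nat_lit 2, nat_lit 1, nat_lit 1]), (nat_lit 541, [nat_lit 2, nat_lit 2, nat_lit 0, nat_lit 1, nat_lit 1, nat_lit 0]), (nat_lit 549, [nat_lit 2, nat_lit 0, nat_lit 0]), (nat_lit 550, [nat_lit 3, nat_lit 3, nat_lit 2, nat_lit 2, nat_lit 1]), (nat_lit 553, [nat_lit 2, nat_lit 0, nat_lit 1, nat_lit 1]), (nat_lit 555, [nat_lit 3, nat_lit 3, nat_lit 1, nat_lit 1]), (nat_lit 558, [nat_lit 2, nat_lit 1, nat_lit 1, nat_lit 0, nat_lit 0]), (nat_lit 561, [nat_lit 0, nat_lit 1, nat_lit 1]), (nat_lit 564, [nat_lit 2, nat_lit 0, nat_lit 2, nat_lit 0]), (nat_lit 565, [nat_lit 2, nat_lit 2, nat_lit 1, nat_lit 1, nat_lit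 0, nat_lit 0]), (nat_lit 569, [nat_lit 0, nat_lit 2]), (nat_lit 578, [nat_lit 1]), (nat_lit 579, [nat_lit 2, nat_lit 0]), (nat_lit 581, [nat_lit 0, nat_lit 1, nat_lit 0]), (nat_lit 582, [nat_lit 1, nat_lit 0, nat_lit 0]), (nat_lit 584, [nat_lit 2, nat_lit 2, nat_lit 1, nat_lit 1, nat_lit 0]), (nat_lit 602, [nat_lit 0, nat_lit 1]), (nat_lit 606, [nat_lit 2, nat_lit 2, nat_lit 0, nat_lit 0]), (nat_lit 623, [nat_lit 2, nat_lit 0, nat_lit 1]), (nat_lit 632, [nat_lit 0, nat_lit 2, nat_lit 0]), (nat_lit 637, [nat_lit 3, nat_lit 1, nat_lit 0]), (nat_lit 639, [nat_lit 2, nat_lit 2, nat_lit 0, nat_lit 1, nat_lit 0]), (nat_lit 641, [nat_lit 0, nat_lit 0, nat_lit 1]), (nat_lit 648, [nat_lit 0]), (nat_lit 652, [nat_lit 3, nat_lit 0, nat_lit 2]), (nat_lit 653, [nat_lit 0, nat_lit 1, nat_lit 1, nat_lit 0]), (nat_lit 657, [nat_lit 3, nat_lit 2, nat_lit 1, nat_lit 1]), (nat_lit 684, [nat_lit 2, nat_lit 2, nat_lit 0, nat_lit 1, nat_lit 1]), (nat_lit 689, [nat_lit 3, nat_lit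 1])]),
  ([[nat_lit 3]], nat_lit 122, [(nat_lit 122, []), (nat_lit 327, [nat_lit 0, nat_lit 0]), (nat_lit 512, [nat_lit 0])]),
  ([[nat_lit 0]], nat_lit 107, [(nat_lit 107, []), (nat_lit 292, [nat_lit 0, nat_lit 0]), (nat_lit 320, [nat_lit 0])])]

theorem rel0 : P.relRow (dT T W) B 0 = true := by decide +kernel
theorem rel1 : P.relRow (dT T W) B 1 = true := by decide +kernel
theorem rel2 : P.relRow (dT T W) B 2 = true := by decide +kernel
theorem rel3 : P.relRow (dT T W) B 3 = true := by decide +kernel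
theorem rel4 : P.relRow (dT T W) B 4 = true := by decide +kernel
theorem rel5 : P.relRow (dT T W) B 5 = true := by decide +kernel
theorem fus0 : P.fusOk (dT T W) B fu 0 = true := by decide +kernel
theorem fus1 : P.fusOk (dT T W) B fu 1 = true := by decide +kernel
theorem fus2 : P.fusOk (dT T W) B fu 2 = true := by decide +kernel
theorem fus3 : P.fusOk (dT T W) B fu 3 = true := by decide +kernel
theorem fus4 : P.fusOk (dT T W) B fu 4 = true := by decide +kernel
theorem fus5 : P.fusOk (dT T W) B fu 5 = true := by decide +kernel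
theorem fus6 : P.fusOk (dT T W) B fu 6 = true := by decide +kernel
theorem fus7 : P.fusOk (dT T W) B fu 7 = true := by decide +kernel
theorem fus8 : P.fusOk (dT T W) B fu 8 = true := by decide +kernel
theorem fus9 : P.fusOk (dT T W) B fu 9 = true := by decide +kernel
theorem fus10 : P.fusOk (dT T W) B fu 10 = true := by decide +kernel
theorem fus11 : P.fusOk (dT T W) B fu 11 = true := by decide +kernel
theorem fus12 : P.fusOk (dT T W) B fu 12 = true := by decide +kernel
theorem fus13 : P.fusOk (dT T W) B fu 13 = true := by decide +kernel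
theorem fus14 : P.fusOk (dT T W) B fu 14 = true := by decide +kernel
theorem fus15 : P.fusOk (dT T W) B fu 15 = true := by decide +kernel
theorem fus16 : P.fusOk (dT T W) B fu 16 = true := by decide +kernel
theorem fus17 : P.fusOk (dT T W) B fu 17 = true := by decide +kernel
theorem fin0 : P.finRow lam (bs :: CV) MU 0 = true := by decide +kernel
theorem fin1 : P.finRow lam (bs :: CV) MU 1 = true := by decide +kernel
theorem fin2 : P.finRow lam (bs :: CV) MU 2 = true := by decide +kernel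
theorem fin3 : P.finRow lam (bs :: CV) MU 3 = true := by decide +kernel
theorem fin4 : P.finRow lam (bs :: CV) MU 4 = true := by decide +kernel
theorem fin5 : P.finRow lam (bs :: CV) MU 5 = true := by decide +kernel

theorem pm {G : Type*} [Group G] [Finite G] {A : RAct G 693} {g : ℕ → G} (hb : A.IsBase B)
    (h : A.Tab g 17 T) (ho : Nat.card G = 9196830720) : PMult G 3 1 1 :=
  pmult_of_tab hb h ho P (show Nat.Prime 3 by norm_num) W fu 1 lam bs mo [cc0, cc1] CV MU lv 18
    (by decide +kernel) (forall_lt_succ' (forall_lt_succ' (forall_lt_succ' (forall_lt_succ' (forall_lt_succ' (forall_lt_succ' forall_lt_zero' rel0) rel1) rel2) rel3) rel4) rel5) (by decide +kernel)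
    (forall_lt_succ' (forall_lt_succ' (forall_lt_succ' (forall_lt_succ' (forall_lt_succ' (forall_lt_succ' (forall_lt_succ' (forall_lt_succ' (forall_lt_succ' (forall_lt_succ' (forall_lt_succ' (forall_lt_succ' (forall_lt_succ' (forall_lt_succ' (forall_lt_succ' (forall_lt_succ' (forall_lt_succ' (forall_lt_succ' forall_lt_zero' fus0) fus1) fus2) fus3) fus4) fus5) fus6) fus7) fus8) fus9) fus10) fus11) fus12) fus13) fus14) fus15) fus16) fus17)
    (by decide +kernel) (by decide +kernel) (by decide +kernel) (by decide +kernel)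
    (List.forall_mem_cons.mpr ⟨con0, (List.forall_mem_cons.mpr ⟨con1, (by simp)⟩)⟩)
    (forall_lt_succ' (forall_lt_succ' (forall_lt_succ' (forall_lt_succ' (forall_lt_succ' (forall_lt_succ' forall_lt_zero' fin0) fin1) fin2) fin3) fin4) fin5) (by decide +kernel)

end Cfsg.Agent.H3.U62.P3
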