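import Cfsg.Agent.L0.CosetChain

/-! Generated coset table certificate. -/

set_option autoImplicit false
set_option maxRecDepth 100000

open Cfsg.Agent.L0

namespace Cfsg.Agent.H3.U62.Tc2

noncomputable def t0 : BT := .leaf (nat_lit 0x2fdfbf4efdf973f545ae02ddbae00050cad5ab6aa54b94e8b3e900952a500013c10a142850a1428418242010a142000000)

noncomputable def tree : BT := t0

noncomputable def row : ℕ → ℕ := rowOf tree (nat_lit 3) (nat_lit 7) (nat_lit 130) (nat_lit 0x3ffffffffffffffffffffffffffffffff)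

noncomputable def cols : List Col := [⟨nat_lit 25, nat_lit 1, [([nat_lit 67, nat_lit 81, nat_lit 60], nat_lit 0)]⟩,
  ⟨nat_lit 32, nat_lit 1, [([nat_lit 67, nat_lit 123, nat_lit 74, nat_lit 123, nat_lit 95, nat_lit 88, nat_lit 60], nat_lit 0)]⟩,
  ⟨nat_lit 39, nat_lit 1, [([nat_lit 67, nat_lit 123, nat_lit 109, nat_lit 25, nat_lit 95, nat_lit 32, nat_lit 60], nat_lit 0)]⟩,
  ⟨nat_lit 53, nat_lit 1, [([nat_lit 60, nat_lit 60, nat_lit 53, nat_lit 60, nat_lit 74], nat_lit 0)]⟩,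
  ⟨nat_lit 60, nat_lit 0, [([nat_lit 67], nat_lit 0)]⟩,
  ⟨nat_lit 67, nat_lit 0, [([nat_lit 60], nat_lit 0), ([nat_lit 67, nat_lit 74, nat_lit 67], nat_lit 0)]⟩,
  ⟨nat_lit 74, nat_lit 1, [([nat_lit 67, nat_lit 67, nat_lit 67], nat_lit 0)]⟩,
  ⟨nat_lit 81, nat_lit 1, [([nat_lit 60, nat_lit 25, nat_lit 67], nat_lit 0), ([nat_lit 74, nat_lit 102, nat_lit 74], nat_lit 0)]⟩,
  ⟨nat_lit 88, nat_lit 1, [([nat_lit 39, nat_lit 74, nat_lit 39], nat_lit 0)]⟩,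
  ⟨nat_lit 95, nat_lit 1, [([nat_lit 74, nat_lit 39, nat_lit 74], nat_lit 0)]⟩,
  ⟨nat_lit 102, nat_lit 1, [([nat_lit 74, nat_lit 81, nat_lit 74], nat_lit 0), ([nat_lit 67, nat_lit 116, nat_lit 25, nat_lit 39, nat_lit 116, nat_lit 25, nat_lit 60], nat_lit 0)]⟩,
  ⟨nat_lit 109, nat_lit 1, [([nat_lit 39, nat_lit 25, nat_lit 81, nat_lit 25, nat_lit 39], nat_lit 0)]⟩,
  ⟨nat_lit 116, nat_lit 1, [([nat_lit 39, nat_lit 53, nat_lit 81, nat_lit 53, nat_lit 39], nat_lit 0)]⟩,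
  ⟨nat_lit 123, nat_lit 1, [([nat_lit 39, nat_lit 25, nat_lit 53, nat_lit 74, nat_lit 53, nat_lit 25, nat_lit 39], nat_lit 0)]⟩]

noncomputable def erots : List (List ℕ × ℕ) := []

noncomputable def gens : List ℕ := [nat_lit 25, nat_lit 32, nat_lit 39, nat_lit 53, nat_lit 60, nat_lit 67, nat_lit 74, nat_lit 81, nat_lit 88, nat_lit 95, nat_lit 102, nat_lit 109, nat_lit 116, nat_lit 123]

noncomputable def chk : ℕ → Bool := chkRow0 row (nat_lit 3) (nat_lit 0x3) (nat_lit 0x1c) (nat_lit 5) (nat_lit 0x3) (nat_lit 0) (nat_lit 0x3) (nat_lit 2) (nat_lit 0xff) (nat_lit 0x400) [] cols gens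

theorem b0 : allR chk 2 0 = true := by decide +kernel

noncomputable def T : CT := ⟨row, nat_lit 3, nat_lit 3, nat_lit 0x3, nat_lit 0x1c, nat_lit 5, nat_lit 0x3, nat_lit 0, nat_lit 0x3, nat_lit 2, nat_lit 0xff, nat_lit 0x400, nat_lit 130, nat_lit 130, nat_lit 0, nat_lit 8, [], cols, erots, gens⟩

theorem all : ∀ c < 3, chk c = true := fun c hc =>
  allR_glue (d := 2) (n := 1) (forall_lt_succ' forall_lt_zero' b0) c (lt_of_lt_of_le hc (by norm_num))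

/-- the relators used -/
def R : List (List ℕ) := [[nat_lit 7, nat_lit 8],
  [nat_lit 8, nat_lit 8, nat_lit 8, nat_lit 9],
  [nat_lit 7, nat_lit 2, nat_lit 8, nat_lit 10],
  [nat_lit 4, nat_lit 9, nat_lit 4, nat_lit 11],
  [nat_lit 9, nat_lit 4, nat_lit 9, nat_lit 12],
  [nat_lit 9, nat_lit 10, nat_lit 9, nat_lit 13],
  [nat_lit 4, nat_lit 2, nat_lit 10, nat_lit 2, nat_lit 4, nat_lit 14],
  [nat_lit 4, nat_lit 6, nat_lit 10, nat_lit 6, nat_lit 4, nat_lit 15],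
  [nat_lit 4, nat_lit 2, nat_lit 6, nat_lit 9, nat_lit 6, nat_lit 2, nat_lit 4, nat_lit 16],
  [nat_lit 6, nat_lit 7, nat_lit 7, nat_lit 6, nat_lit 7, nat_lit 9],
  [nat_lit 7, nat_lit 3, nat_lit 8, nat_lit 16, nat_lit 9, nat_lit 16, nat_lit 12, nat_lit 11],
  [nat_lit 7, nat_lit 4, nat_lit 8, nat_lit 16, nat_lit 14, nat_lit 2, nat_lit 12, nat_lit 3],
  [nat_lit 7, nat_lit 13, nat_lit 8, nat_lit 15, nat_lit 2, nat_lit 4, nat_lit 15, nat_lit 2]]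

theorem cert : Cert T (R.map fun r => (r, 0)) ([2, 3, 4, 6, 9, 10, 11, 12, 13, 14, 15, 16].map fun y => (y, 0)) 11 7 [2, 3, 4, 6, 7, 8, 9, 10, 11, 12, 13, 14, 15, 16] :=
  ⟨by decide +kernel, ⟨[[(2, 1)], [(10, 1)], [(11, 1)], [(9, 0)], [(0, 0)], [(0, 1), (1, 1)], [(1, 3)], [(2, 3), (5, 1)], [(3, 3)], [(4, 3)], [(5, 3), (12, 1)], [(6, 5)], [(7, 5)], [(8, 7)]], [], by decide +kernel⟩, by decide +kernel, Or.inl ⟨rfl, all⟩⟩

theorem bound {Γ : Type*} [Group Γ] {x : ℕ → Γ} (hR : ∀ r ∈ R, ev x r = 1) {n : ℕ}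
    (h : CardLe x [2, 3, 4, 6, 9, 10, 11, 12, 13, 14, 15, 16] n) : CardLe x [2, 3, 4, 6, 7, 8, 9, 10, 11, 12, 13, 14, 15, 16] (3 * n) :=
  cert.cardLe rfl hR h

end Cfsg.Agent.H3.U62.Tc2
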