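import Cfsg.Agent.L0.CosetChain

/-! Generated coset table certificate. -/

set_option autoImplicit false
set_option maxRecDepth 100000

open Cfsg.Agent.L0

namespace Cfsg.Agent.H3.U62.Tc3

noncomputable def t0 : BT := .node (.node (.node (.leaf (nat_lit 0x3b107420e841bc83910742082130c900000001684000039087421284000000009500930d2788cd5d1e8b94f721ec21c00f000000004108000608721b0ea48000000046c0400e801c003600690a7210e710c0064000000000300002c43104221aa000000021f824b3c00ba1042620c535486a885002c000000013120000e21400a9042000000010c010028ae1c8a2b24326928d24820a2c400000000de580002990004c86500000000550000120022004094211022184620c82080000000003c00020c3001c0034000000029900006000b00140024c61d8830010a2080000000000e00008208006000a00000001270020044008801100220044008004000600000000801000000084008801000000000000)) (.leaf (nat_lit 0x36d074a0e941e28395074a0829131400000001674000029af33a127400000000d508904e46b68d70994921d23bab49cab7800000006d540002ce751246b60000000070234a0d904e683a4e6090e11dc6a4c91b80000000693400016332091675200000003799a9070a0e904e54aa486c8eda3a526d600000001ce90000d195c4812da00000001b90d3a48cd90e121ba437487190827331300000002a1200003734729121200000000d506931586b491a4a6e121823b1118d6568000000041380002c63611e6a74000000066c349ac142926b48a6c90a91d53744a9a80000000263a0001d11104d311c000000031f986384db09b213bc36884d30ac5720980000000236100010748e90ab2100000001a64b)))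 (.leaf (nat_lit 0x46444d4e576436643c6868c0173c18000000008230000005ac21c99380000000cd82a509208a4e1ca062c146828528526b80000000ce2800024a821d9022c00000006f31152b3b56342c6358c6b1a56362041140000000462c0000cc69a56542c000000034c888b8c0161193254a87890d1002b35aa000000013a7000000a88229886000000018fc42088513616792d228ae515daea22e8000000009c8000098a843a4a2880000000a0418029a63085549672ada55b4854c9b2000000006d7000032132088636c000000043f0c821a3ca27972a508c6114c005102480000000358a000091090e7258e0000000281045628821940c280e462c8a59d1e39a200000001489000052808731c14000000013cc2))) (.node (.node (.leaf (nat_lit 0x79969030821a2c5231445289ab1a10000000021aa000023be43949a4800000009c81228557924c51a259187228e5380d0780000000410c00011de21c64a30000000046c080138026004a8a4c8c31146004868380000000004600008ec904321c4000000021f848b1e60a13c9541446148a29a9f341a00000001a8c000047580111043000000010c0220845141de8bbd7a2a544496c600210000000096680004418437692780000000a040951020848e48a47c95192228f2c010000000005010000540b21b8435c00000004f305aa89412208449360a841104314007c000000027ae000186510db9108000000027202555ca07a38d20848c109c22b89221000000003c510001b12486d1b10000000013541))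 (.leaf (nat_lit 0x3ae076c0ed81d703ae076c082eb4ec000000016b800002ad276c12b800000001150e2b2f37de72bced79daf39de76a5693800000008dbc000105d34deb2bc000000084e70e771d6e3adc75b8e771d6e20b0529800000005a5c0000a8e1d6e4a5c00000004542e74b4c76aced3a5a74b4e36b3dc29c6000000020ed00004160c96a4ad00000002139787b4415498c241d295292a5a96153000000001d8d8000e8d8825c8ae000000011e6a2d2b66d674acdf59cab3a56415599280000000b4ac0001c9b3a5694ac00000008a850e351d6a3254ada8d751b2a24364a8800000005954000082a98ea5254000000042728414d1f114a345ce91b0a7615ef99d200000001525000094c144a13e600000001c092))) (.leaf (nat_lit 0x3ac07380f101c2038c07480e47904b00000001270000038a2738167000000000d3251ddf7b3ead7ccef991f34be4b3482500000001357c0001990393e8c7c00000006992558f1a1e5abc6378c6f1a5e2aa2411c0000000443c0000cc79c9e55bc000000034c8c41191f2946628d8879d0d38030a93a00000001ae2000000bd44612e300000001c08528ca41189d3a4a343cc8698a16bc1c000000009c9800049dc822cc9600000000de62a3e6274e411897121e5434a87a916d800000004db000014eb7114444c00000006e414a1613a346444118989931348327068000000029cc00009f24089654a000000036a8a7364e4c9bd931b26364d2c945a208c0000000249900006638d0cd9d900000001a645)))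

noncomputable def tree : BT := t0

noncomputable def row : ℕ → ℕ := rowOf tree (nat_lit 3) (nat_lit 7) (nat_lit 273) (nat_lit 0x1ffffffffffffffffffffffffffffffffffffffffffffffffffffffffffffffffffff)

noncomputable def cols : List Col := [⟨nat_lit 48, nat_lit 1, [([nat_lit 48], nat_lit 0), ([nat_lit 63, nat_lit 48, nat_lit 63], nat_lit 0), ([nat_lit 168, nat_lit 48, nat_lit 78, nat_lit 228, nat_lit 78], nat_lit 0), ([nat_lit 78, nat_lit 48, nat_lit 78, nat_lit 48, nat_lit 78], nat_lit 0), ([nat_lit 213, nat_lit 48, nat_lit 213], nat_lit 0), ([nat_lit 183, nat_lit 48, nat_lit 183], nat_lit 0), ([nat_lit 243, nat_lit 48, nat_lit 243], nat_lit 0), ([nat_lit 168, nat_lit 48, nat_lit 228, nat_lit 78, nat_lit 228], nat_lit 0), ([nat_lit 108, nat_lit 153, nat_lit 108, nat_lit 48, nat_lit 78, nat_lit 258, nat_lit 78], nat_lit 0), ([nat_lit 78, nat_lit 63, nat_lit 153, nat_lit 108, nat_lit 228, nat_lit 243, nat_lit 78, nat_lit 63, nat_lit 153], nat_lit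 0)]⟩,
  ⟨nat_lit 63, nat_lit 1, [([nat_lit 63], nat_lit 0), ([nat_lit 78, nat_lit 63, nat_lit 78, nat_lit 63, nat_lit 78], nat_lit 0), ([nat_lit 243, nat_lit 63, nat_lit 243], nat_lit 0), ([nat_lit 258, nat_lit 63, nat_lit 258], nat_lit 0), ([nat_lit 108, nat_lit 63, nat_lit 108], nat_lit 0), ([nat_lit 228, nat_lit 63, nat_lit 228], nat_lit 0), ([nat_lit 213, nat_lit 63, nat_lit 213], nat_lit 0), ([nat_lit 168, nat_lit 243, nat_lit 153, nat_lit 228, nat_lit 48, nat_lit 63, nat_lit 78, nat_lit 108, nat_lit 153], nat_lit 0)]⟩,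
  ⟨nat_lit 78, nat_lit 0, [([nat_lit 78], nat_lit 0), ([nat_lit 183, nat_lit 78, nat_lit 153], nat_lit 0), ([nat_lit 153, nat_lit 78, nat_lit 183], nat_lit 0), ([nat_lit 183, nat_lit 153, nat_lit 198], nat_lit 0), ([nat_lit 48, nat_lit 168, nat_lit 48, nat_lit 78, nat_lit 228], nat_lit 0), ([nat_lit 48, nat_lit 78, nat_lit 48, nat_lit 78, nat_lit 48], nat_lit 0), ([nat_lit 153, nat_lit 198, nat_lit 153], nat_lit 0), ([nat_lit 108, nat_lit 168, nat_lit 108, nat_lit 78, nat_lit 243], nat_lit 0), ([nat_lit 228, nat_lit 48, nat_lit 168, nat_lit 48, nat_lit 228], nat_lit 0), ([nat_lit 63, nat_lit 78, nat_lit 63, nat_lit 78, nat_lit 63], nat_lit 0), ([nat_lit 108, nat_lit 78, nat_lit 108, nat_lit 78, nat_lit 108], nat_lit 0), ([nat_lit 63, nat_lit 168, nat_lit 63, nat_lit 78, nat_lit 183, nat_lit 63, nat_lit 213], nat_lit 0), ([nat_lit 108, nat_lit 153, nat_lit 63, nat_lit 168, nat_lit 243, nat_lit 153, nat_lit 228, nat_lit 48, nat_lit 63], nat_lit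 0)]⟩,
  ⟨nat_lit 108, nat_lit 1, [([nat_lit 108], nat_lit 0), ([nat_lit 48, nat_lit 108, nat_lit 48], nat_lit 0), ([nat_lit 78, nat_lit 108, nat_lit 78, nat_lit 108, nat_lit 78], nat_lit 0), ([nat_lit 168, nat_lit 108, nat_lit 78, nat_lit 243, nat_lit 78], nat_lit 0), ([nat_lit 63, nat_lit 108, nat_lit 63], nat_lit 0), ([nat_lit 228, nat_lit 108, nat_lit 228], nat_lit 0), ([nat_lit 213, nat_lit 108, nat_lit 213], nat_lit 0), ([nat_lit 153, nat_lit 108, nat_lit 48, nat_lit 78, nat_lit 258, nat_lit 78, nat_lit 48], nat_lit 0), ([nat_lit 153, nat_lit 63, nat_lit 168, nat_lit 243, nat_lit 153, nat_lit 228, nat_lit 48, nat_lit 63, nat_lit 78], nat_lit 0)]⟩,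
  ⟨nat_lit 153, nat_lit 0, [([nat_lit 153], nat_lit 0), ([nat_lit 78, nat_lit 153, nat_lit 198], nat_lit 0), ([nat_lit 168, nat_lit 153, nat_lit 213], nat_lit 0), ([nat_lit 78, nat_lit 183, nat_lit 78], nat_lit 0), ([nat_lit 213, nat_lit 153, nat_lit 168], nat_lit 0), ([nat_lit 63, nat_lit 168, nat_lit 243, nat_lit 153, nat_lit 228, nat_lit 48, nat_lit 63, nat_lit 78, nat_lit 108], nat_lit 0), ([nat_lit 258, nat_lit 153, nat_lit 258, nat_lit 153, nat_lit 258], nat_lit 0), ([nat_lit 228, nat_lit 48, nat_lit 63, nat_lit 78, nat_lit 108, nat_lit 153, nat_lit 63, nat_lit 168, nat_lit 243], nat_lit 0), ([nat_lit 108, nat_lit 228, nat_lit 243, nat_lit 78, nat_lit 63, nat_lit 153, nat_lit 48, nat_lit 78, nat_lit 63], nat_lit 0)]⟩,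
  ⟨nat_lit 168, nat_lit 0, [([nat_lit 168], nat_lit 0), ([nat_lit 153, nat_lit 213, nat_lit 153], nat_lit 0), ([nat_lit 48, nat_lit 228, nat_lit 78, nat_lit 228, nat_lit 48], nat_lit 0), ([nat_lit 48, nat_lit 78, nat_lit 228, nat_lit 78, nat_lit 48], nat_lit 0), ([nat_lit 108, nat_lit 78, nat_lit 243, nat_lit 78, nat_lit 108], nat_lit 0), ([nat_lit 63, nat_lit 78, nat_lit 183, nat_lit 63, nat_lit 213, nat_lit 78, nat_lit 63], nat_lit 0), ([nat_lit 243, nat_lit 153, nat_lit 228, nat_lit 48, nat_lit 63, nat_lit 78, nat_lit 108, nat_lit 153, nat_lit 63], nat_lit 0)]⟩,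
  ⟨nat_lit 183, nat_lit 1, [([nat_lit 183], nat_lit 0), ([nat_lit 78, nat_lit 153, nat_lit 78], nat_lit 0), ([nat_lit 63, nat_lit 183, nat_lit 63], nat_lit 0), ([nat_lit 48, nat_lit 183, nat_lit 48], nat_lit 0), ([nat_lit 213, nat_lit 183, nat_lit 213], nat_lit 0), ([nat_lit 108, nat_lit 183, nat_lit 108], nat_lit 0), ([nat_lit 228, nat_lit 183, nat_lit 228], nat_lit 0), ([nat_lit 243, nat_lit 183, nat_lit 243], nat_lit 0), ([nat_lit 258, nat_lit 183, nat_lit 258], nat_lit 0), ([nat_lit 153, nat_lit 198, nat_lit 78], nat_lit 0)]⟩,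
  ⟨nat_lit 198, nat_lit 1, [([nat_lit 198], nat_lit 0), ([nat_lit 153, nat_lit 78, nat_lit 153], nat_lit 0), ([nat_lit 63, nat_lit 198, nat_lit 63], nat_lit 0), ([nat_lit 213, nat_lit 198, nat_lit 213], nat_lit 0), ([nat_lit 48, nat_lit 198, nat_lit 48], nat_lit 0), ([nat_lit 108, nat_lit 198, nat_lit 108], nat_lit 0), ([nat_lit 228, nat_lit 198, nat_lit 228], nat_lit 0), ([nat_lit 243, nat_lit 198, nat_lit 243], nat_lit 0), ([nat_lit 258, nat_lit 198, nat_lit 258], nat_lit 0), ([nat_lit 78, nat_lit 183, nat_lit 153], nat_lit 0)]⟩,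
  ⟨nat_lit 213, nat_lit 1, [([nat_lit 213], nat_lit 0), ([nat_lit 153, nat_lit 168, nat_lit 153], nat_lit 0), ([nat_lit 63, nat_lit 213, nat_lit 63], nat_lit 0), ([nat_lit 78, nat_lit 63, nat_lit 168, nat_lit 63, nat_lit 78, nat_lit 183, nat_lit 63], nat_lit 0), ([nat_lit 48, nat_lit 213, nat_lit 48], nat_lit 0), ([nat_lit 108, nat_lit 213, nat_lit 108], nat_lit 0), ([nat_lit 243, nat_lit 213, nat_lit 243], nat_lit 0), ([nat_lit 258, nat_lit 213, nat_lit 258], nat_lit 0)]⟩,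
  ⟨nat_lit 228, nat_lit 1, [([nat_lit 228], nat_lit 0), ([nat_lit 78, nat_lit 48, nat_lit 168, nat_lit 48, nat_lit 78], nat_lit 0), ([nat_lit 48, nat_lit 228, nat_lit 48], nat_lit 0), ([nat_lit 78, nat_lit 228, nat_lit 48, nat_lit 168, nat_lit 48], nat_lit 0), ([nat_lit 63, nat_lit 228, nat_lit 63], nat_lit 0), ([nat_lit 183, nat_lit 228, nat_lit 183], nat_lit 0), ([nat_lit 258, nat_lit 228, nat_lit 258], nat_lit 0), ([nat_lit 243, nat_lit 78, nat_lit 63, nat_lit 153, nat_lit 48, nat_lit 78, nat_lit 63, nat_lit 153, nat_lit 108], nat_lit 0)]⟩,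
  ⟨nat_lit 243, nat_lit 1, [([nat_lit 243], nat_lit 0), ([nat_lit 78, nat_lit 108, nat_lit 168, nat_lit 108, nat_lit 78], nat_lit 0), ([nat_lit 48, nat_lit 243, nat_lit 48], nat_lit 0), ([nat_lit 63, nat_lit 243, nat_lit 63], nat_lit 0), ([nat_lit 153, nat_lit 228, nat_lit 48, nat_lit 63, nat_lit 78, nat_lit 108, nat_lit 153, nat_lit 63, nat_lit 168], nat_lit 0), ([nat_lit 78, nat_lit 63, nat_lit 153, nat_lit 48, nat_lit 78, nat_lit 63, nat_lit 153, nat_lit 108, nat_lit 228], nat_lit 0), ([nat_lit 183, nat_lit 243, nat_lit 183], nat_lit 0), ([nat_lit 213, nat_lit 243, nat_lit 213], nat_lit 0), ([nat_lit 228, nat_lit 243, nat_lit 228], nat_lit 0)]⟩,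
  ⟨nat_lit 258, nat_lit 1, [([nat_lit 258], nat_lit 0), ([nat_lit 153, nat_lit 258, nat_lit 153, nat_lit 258, nat_lit 153], nat_lit 0), ([nat_lit 48, nat_lit 258, nat_lit 48], nat_lit 0), ([nat_lit 78, nat_lit 48, nat_lit 108, nat_lit 153, nat_lit 108, nat_lit 48, nat_lit 78], nat_lit 0), ([nat_lit 183, nat_lit 258, nat_lit 183], nat_lit 0), ([nat_lit 213, nat_lit 258, nat_lit 213], nat_lit 0), ([nat_lit 243, nat_lit 258, nat_lit 243], nat_lit 0)]⟩]

noncomputable def erots : List (List ℕ × ℕ) := []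

noncomputable def gens : List ℕ := [nat_lit 48, nat_lit 63, nat_lit 78, nat_lit 108, nat_lit 153, nat_lit 168, nat_lit 183, nat_lit 198, nat_lit 213, nat_lit 228, nat_lit 243, nat_lit 258]

noncomputable def chk : ℕ → Bool := chkRow0 row (nat_lit 48) (nat_lit 0x3f) (nat_lit 0x7c0) (nat_lit 11) (nat_lit 0xf) (nat_lit 0) (nat_lit 0x3f) (nat_lit 6) (nat_lit 0x1ff) (nat_lit 0x38000) [] cols gens

theorem b0 : allR chk 6 0 = true := by decide +kernel

noncomputable def T : CT := ⟨row, nat_lit 48, nat_lit 48, nat_lit 0x3f, nat_lit 0x7c0, nat_lit 11, nat_lit 0xf, nat_lit 0, nat_lit 0x3f, nat_lit 6, nat_lit 0x1ff, nat_lit 0x38000, nat_lit 273, nat_lit 273, nat_lit 0, nat_lit 10, [], cols, erots, gens⟩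

theorem all : ∀ c < 48, chk c = true := fun c hc =>
  allR_glue (d := 6) (n := 1) (forall_lt_succ' forall_lt_zero' b0) c (lt_of_lt_of_le hc (by norm_num))

/-- the relators used -/
def R : List (List ℕ) := [[nat_lit 2, nat_lit 2],
  [nat_lit 3, nat_lit 3],
  [nat_lit 4, nat_lit 4],
  [nat_lit 6, nat_lit 6],
  [nat_lit 9, nat_lit 9],
  [nat_lit 10, nat_lit 10],
  [nat_lit 11, nat_lit 11],
  [nat_lit 12, nat_lit 12],
  [nat_lit 13, nat_lit 13],
  [nat_lit 14, nat_lit 14],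
  [nat_lit 15, nat_lit 15],
  [nat_lit 16, nat_lit 16],
  [nat_lit 4, nat_lit 9, nat_lit 4, nat_lit 11],
  [nat_lit 9, nat_lit 4, nat_lit 9, nat_lit 12],
  [nat_lit 9, nat_lit 10, nat_lit 9, nat_lit 13],
  [nat_lit 4, nat_lit 2, nat_lit 10, nat_lit 2, nat_lit 4, nat_lit 14],
  [nat_lit 4, nat_lit 6, nat_lit 10, nat_lit 6, nat_lit 4, nat_lit 15],
  [nat_lit 4, nat_lit 2, nat_lit 6, nat_lit 9, nat_lit 6, nat_lit 2, nat_lit 4, nat_lit 16],
  [nat_lit 3, nat_lit 13, nat_lit 3, nat_lit 13],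
  [nat_lit 11, nat_lit 3, nat_lit 11, nat_lit 3],
  [nat_lit 11, nat_lit 13, nat_lit 11, nat_lit 13],
  [nat_lit 12, nat_lit 3, nat_lit 12, nat_lit 3],
  [nat_lit 12, nat_lit 13, nat_lit 12, nat_lit 13],
  [nat_lit 2, nat_lit 3, nat_lit 2, nat_lit 3],
  [nat_lit 2, nat_lit 11, nat_lit 2, nat_lit 11],
  [nat_lit 2, nat_lit 12, nat_lit 2, nat_lit 12],
  [nat_lit 2, nat_lit 13, nat_lit 2, nat_lit 13],
  [nat_lit 6, nat_lit 2, nat_lit 6, nat_lit 2],
  [nat_lit 6, nat_lit 3, nat_lit 6, nat_lit 3],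
  [nat_lit 6, nat_lit 11, nat_lit 6, nat_lit 11],
  [nat_lit 6, nat_lit 12, nat_lit 6, nat_lit 12],
  [nat_lit 6, nat_lit 13, nat_lit 6, nat_lit 13],
  [nat_lit 14, nat_lit 2, nat_lit 14, nat_lit 2],
  [nat_lit 14, nat_lit 3, nat_lit 14, nat_lit 3],
  [nat_lit 14, nat_lit 6, nat_lit 14, nat_lit 6],
  [nat_lit 14, nat_lit 11, nat_lit 14, nat_lit 11],
  [nat_lit 14, nat_lit 12, nat_lit 14, nat_lit 12],
  [nat_lit 15, nat_lit 2, nat_lit 15, nat_lit 2],
  [nat_lit 15, nat_lit 3, nat_lit 15, nat_lit 3],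
  [nat_lit 15, nat_lit 11, nat_lit 15, nat_lit 11],
  [nat_lit 15, nat_lit 12, nat_lit 15, nat_lit 12],
  [nat_lit 15, nat_lit 13, nat_lit 15, nat_lit 13],
  [nat_lit 15, nat_lit 14, nat_lit 15, nat_lit 14],
  [nat_lit 16, nat_lit 2, nat_lit 16, nat_lit 2],
  [nat_lit 16, nat_lit 3, nat_lit 16, nat_lit 3],
  [nat_lit 16, nat_lit 11, nat_lit 16, nat_lit 11],
  [nat_lit 16, nat_lit 12, nat_lit 16, nat_lit 12],
  [nat_lit 16, nat_lit 13, nat_lit 16, nat_lit 13],
  [nat_lit 16, nat_lit 14, nat_lit 16, nat_lit 14],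
  [nat_lit 16, nat_lit 15, nat_lit 16, nat_lit 15],
  [nat_lit 10, nat_lit 2, nat_lit 14, nat_lit 4, nat_lit 14, nat_lit 2],
  [nat_lit 4, nat_lit 2, nat_lit 4, nat_lit 2, nat_lit 4, nat_lit 2],
  [nat_lit 4, nat_lit 3, nat_lit 4, nat_lit 3, nat_lit 4, nat_lit 3],
  [nat_lit 4, nat_lit 6, nat_lit 4, nat_lit 6, nat_lit 4, nat_lit 6],
  [nat_lit 9, nat_lit 16, nat_lit 9, nat_lit 16, nat_lit 9, nat_lit 16],
  [nat_lit 4, nat_lit 3, nat_lit 10, nat_lit 3, nat_lit 4, nat_lit 11, nat_lit 3, nat_lit 13],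
  [nat_lit 2, nat_lit 3, nat_lit 4, nat_lit 6, nat_lit 9, nat_lit 3, nat_lit 10, nat_lit 15, nat_lit 9, nat_lit 14],
  [nat_lit 2, nat_lit 4, nat_lit 3, nat_lit 9, nat_lit 6, nat_lit 14, nat_lit 15, nat_lit 4, nat_lit 3, nat_lit 9],
  [nat_lit 12, nat_lit 4, nat_lit 11, nat_lit 9]]

theorem cert : Cert T (R.map fun r => (r, 0)) ([2, 3, 6, 11, 12, 13, 14, 15, 16].map fun y => (y, 0)) 18 15 [2, 3, 4, 6, 9, 10, 11, 12, 13, 14, 15, 16] :=
  ⟨by decide +kernel, ⟨[[(0, 0), (23, 0), (15, 1), (51, 1), (26, 0), (24, 0), (37, 1), (50, 5), (17, 1), (57, 0)], [(1, 0), (52, 1), (38, 1), (44, 1), (28, 1), (33, 1), (18, 0), (56, 5)], [(2, 0), (12, 2), (12, 0), (58, 1), (15, 0), (51, 0), (13, 1), (16, 0), (50, 3), (52, 0), (53, 0), (55, 0), (56, 2)], [(3, 0), (27, 0), (53, 1), (16, 1), (28, 0), (34, 1), (31, 0), (17, 2), (56, 3)], [(4, 0), (13, 0), (14, 0), (12, 1), (14, 2), (56, 4), (54, 0), (56, 8), (57, 3)], [(5, 0), (14, 1), (50, 0), (15, 2), (16, 2),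 (55, 2), (56, 6)], [(6, 0), (12, 3), (19, 0), (24, 1), (20, 0), (29, 1), (35, 1), (39, 1), (45, 1), (58, 2)], [(7, 0), (13, 3), (21, 0), (22, 0), (25, 1), (30, 1), (36, 1), (40, 1), (46, 1), (58, 0)], [(8, 0), (14, 3), (18, 1), (55, 7), (26, 1), (31, 1), (41, 1), (47, 1)], [(9, 0), (15, 5), (32, 0), (50, 2), (33, 0), (35, 0), (48, 1), (57, 5)], [(10, 0), (16, 5), (37, 0), (38, 0), (56, 7), (57, 6), (39, 0), (41, 0), (42, 0)], [(11, 0), (54, 1), (43, 0), (17, 7), (45, 0), (47, 0), (49, 0)]], [], by decide +kernel⟩, by decide +kernel, Or.inl ⟨rfl, all⟩⟩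

theorem bound {Γ : Type*} [Group Γ] {x : ℕ → Γ} (hR : ∀ r ∈ R, ev x r = 1) {n : ℕ}
    (h : CardLe x [2, 3, 6, 11, 12, 13, 14, 15, 16] n) : CardLe x [2, 3, 4, 6, 9, 10, 11, 12, 13, 14, 15, 16] (48 * n) :=
  cert.cardLe rfl hR h

end Cfsg.Agent.H3.U62.Tc3
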