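import Cfsg.Agent.L0.CosetChain

/-! Generated coset table certificate. -/

set_option autoImplicit false
set_option maxRecDepth 100000

open Cfsg.Agent.L0

namespace Cfsg.Agent.H3.U62.Tc4

noncomputable def t0 : BT := .node (.node (.leaf (nat_lit 0xa8051084908484242000000000000011a2000000242210800000026402013009004520e90748380000000000002108000000483b20c000000460050828d0467e21b10d8860000000000000466800000188646500000005c4000410828cea42d21690a00000000000008cc000000290a8c90000000b54000780390830848424210000000000000119600000042111900000001640000d006002d906c8364180000000000002104000000641a31c0000002600001400900422091048820000000000000003800000088242080000004580001800a00420090048020000000000000003000000080200200000000000)) (.leaf (nat_lit 0x425a37e11ad986cc3660000000000000129e0000003661b380000003711401f425b231b2ed976cb800000000000025380000006cbb66c0000006d529092c8a68f265932c996000000000000088e80000009964a80000000dc4421211bd08a4caa65532a0000000000000d1c000000132a94f0000001b88700f21219129944ca26500000000000001a36000000265129c00000036a8e84746ea3713269934c9800000000000052280000004c9a5340000006e21803a84746da649324992000000000000084480000009924a60000000daa300700368474c8a6453220000000000000c88000000132294b0000001b206)))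 (.node (.leaf (nat_lit 0x422b219a35510a88544000000000000022320000005442a2c0000002710884446d421a21f10f88780000000000003460000000887c4540000004e20c034844642c43a21d10e000000000000068b800000110e88a00000009aa1a10d1b28d8686b435a1a00000000000014860000001a1ad130000001388200ca10d1aed0c6863430000000000000210a0000003431a2400000026a8401800ba10da16d0b68580000000000003210000000685b4440000004c8090848d646aa42921490a0000000000000469800000090ac4300000009c4080590848d4484a42521200000000000008d2000000121348500000013541)) (.leaf (nat_lit 0x42db2712baaa05502a8000000000000013bc0000002a814be0000005713485764c2565c3ee1f70f8000000000000276800000070fb8800000008e2590a8c954ab287943ca1e00000000000006d00000000a1e4ed00000011c49a149926d2050ea87543a0000000000000956000000143a9d900000023891428a382126a1c50e287000000000000012aa00000028713b000000047120020428b249436a1b50d8000000000000255000000050da75c0000008d54109cc8f4a8466a33519a00000000000006cf800000119a8cf0000000dc46a13191ad1f6ccb665b3200000000000009500000001b32d9d0000001b88b)))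

noncomputable def tree : BT := t0

noncomputable def row : ℕ → ℕ := rowOf tree (nat_lit 3) (nat_lit 7) (nat_lit 239) (nat_lit 0x7fffffffffffffffffffffffffffffffffffffffffffffffffffffffffff)

noncomputable def cols : List Col := [⟨nat_lit 44, nat_lit 0, [([nat_lit 44], nat_lit 0), ([nat_lit 96, nat_lit 44, nat_lit 96], nat_lit 0), ([nat_lit 200, nat_lit 44, nat_lit 200], nat_lit 0), ([nat_lit 213, nat_lit 44, nat_lit 213], nat_lit 0), ([nat_lit 226, nat_lit 44, nat_lit 226], nat_lit 0)]⟩,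
  ⟨nat_lit 57, nat_lit 1, [([nat_lit 44, nat_lit 57, nat_lit 44], nat_lit 0), ([nat_lit 96, nat_lit 57, nat_lit 96], nat_lit 0), ([nat_lit 200, nat_lit 57, nat_lit 200], nat_lit 0), ([nat_lit 213, nat_lit 57, nat_lit 213], nat_lit 0), ([nat_lit 226, nat_lit 57, nat_lit 226], nat_lit 0)]⟩,
  ⟨nat_lit 96, nat_lit 0, [([nat_lit 96], nat_lit 0), ([nat_lit 200, nat_lit 96, nat_lit 200], nat_lit 0), ([nat_lit 213, nat_lit 96, nat_lit 213], nat_lit 0), ([nat_lit 226, nat_lit 96, nat_lit 226], nat_lit 0)]⟩,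
  ⟨nat_lit 161, nat_lit 1, [([nat_lit 44, nat_lit 161, nat_lit 44], nat_lit 0), ([nat_lit 96, nat_lit 161, nat_lit 96], nat_lit 0), ([nat_lit 200, nat_lit 161, nat_lit 200], nat_lit 0), ([nat_lit 213, nat_lit 161, nat_lit 213], nat_lit 0), ([nat_lit 226, nat_lit 161, nat_lit 226], nat_lit 0)]⟩,
  ⟨nat_lit 174, nat_lit 1, [([nat_lit 44, nat_lit 174, nat_lit 44], nat_lit 0), ([nat_lit 96, nat_lit 174, nat_lit 96], nat_lit 0), ([nat_lit 200, nat_lit 174, nat_lit 200], nat_lit 0), ([nat_lit 213, nat_lit 174, nat_lit 213], nat_lit 0), ([nat_lit 226, nat_lit 174, nat_lit 226], nat_lit 0)]⟩,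
  ⟨nat_lit 187, nat_lit 1, [([nat_lit 44, nat_lit 187, nat_lit 44], nat_lit 0), ([nat_lit 96, nat_lit 187, nat_lit 96], nat_lit 0), ([nat_lit 200, nat_lit 187, nat_lit 200], nat_lit 0), ([nat_lit 213, nat_lit 187, nat_lit 213], nat_lit 0), ([nat_lit 226, nat_lit 187, nat_lit 226], nat_lit 0)]⟩,
  ⟨nat_lit 200, nat_lit 0, [([nat_lit 200], nat_lit 0), ([nat_lit 213, nat_lit 200, nat_lit 213], nat_lit 0), ([nat_lit 226, nat_lit 200, nat_lit 226], nat_lit 0)]⟩,
  ⟨nat_lit 213, nat_lit 0, [([nat_lit 213], nat_lit 0), ([nat_lit 226, nat_lit 213, nat_lit 226], nat_lit 0)]⟩,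
  ⟨nat_lit 226, nat_lit 0, [([nat_lit 226], nat_lit 0)]⟩]

noncomputable def erots : List (List ℕ × ℕ) := []

noncomputable def gens : List ℕ := [nat_lit 44, nat_lit 57, nat_lit 96, nat_lit 161, nat_lit 174, nat_lit 187, nat_lit 200, nat_lit 213, nat_lit 226]

noncomputable def chk : ℕ → Bool := chkRow0 row (nat_lit 32) (nat_lit 0x3f) (nat_lit 0x3c0) (nat_lit 10) (nat_lit 0x7) (nat_lit 0) (nat_lit 0x3f) (nat_lit 6) (nat_lit 0x1ff) (nat_lit 0x38000) [] cols gens

theorem b0 : allR chk 5 0 = true := by decide +kernel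

noncomputable def T : CT := ⟨row, nat_lit 32, nat_lit 32, nat_lit 0x3f, nat_lit 0x3c0, nat_lit 10, nat_lit 0x7, nat_lit 0, nat_lit 0x3f, nat_lit 6, nat_lit 0x1ff, nat_lit 0x38000, nat_lit 239, nat_lit 239, nat_lit 0, nat_lit 4, [], cols, erots, gens⟩

theorem all : ∀ c < 32, chk c = true := fun c hc =>
  allR_glue (d := 5) (n := 1) (forall_lt_succ' forall_lt_zero' b0) c (lt_of_lt_of_le hc (by norm_num))

/-- the relators used -/
def R : List (List ℕ) := [[nat_lit 2, nat_lit 2],
  [nat_lit 6, nat_lit 6],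
  [nat_lit 14, nat_lit 14],
  [nat_lit 15, nat_lit 15],
  [nat_lit 16, nat_lit 16],
  [nat_lit 2, nat_lit 3, nat_lit 2, nat_lit 3],
  [nat_lit 2, nat_lit 11, nat_lit 2, nat_lit 11],
  [nat_lit 2, nat_lit 12, nat_lit 2, nat_lit 12],
  [nat_lit 2, nat_lit 13, nat_lit 2, nat_lit 13],
  [nat_lit 6, nat_lit 2, nat_lit 6, nat_lit 2],
  [nat_lit 6, nat_lit 3, nat_lit 6, nat_lit 3],
  [nat_lit 6, nat_lit 11, nat_lit 6, nat_lit 11],
  [nat_lit 6, nat_lit 12, nat_lit 6, nat_lit 12],
  [nat_lit 6, nat_lit 13, nat_lit 6, nat_lit 13],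
  [nat_lit 14, nat_lit 2, nat_lit 14, nat_lit 2],
  [nat_lit 14, nat_lit 3, nat_lit 14, nat_lit 3],
  [nat_lit 14, nat_lit 6, nat_lit 14, nat_lit 6],
  [nat_lit 14, nat_lit 11, nat_lit 14, nat_lit 11],
  [nat_lit 14, nat_lit 12, nat_lit 14, nat_lit 12],
  [nat_lit 14, nat_lit 13, nat_lit 14, nat_lit 13],
  [nat_lit 15, nat_lit 2, nat_lit 15, nat_lit 2],
  [nat_lit 15, nat_lit 3, nat_lit 15, nat_lit 3],
  [nat_lit 15, nat_lit 6, nat_lit 15, nat_lit 6],
  [nat_lit 15, nat_lit 11, nat_lit 15, nat_lit 11],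
  [nat_lit 15, nat_lit 12, nat_lit 15, nat_lit 12],
  [nat_lit 15, nat_lit 13, nat_lit 15, nat_lit 13],
  [nat_lit 15, nat_lit 14, nat_lit 15, nat_lit 14],
  [nat_lit 16, nat_lit 2, nat_lit 16, nat_lit 2],
  [nat_lit 16, nat_lit 3, nat_lit 16, nat_lit 3],
  [nat_lit 16, nat_lit 6, nat_lit 16, nat_lit 6],
  [nat_lit 16, nat_lit 11, nat_lit 16, nat_lit 11],
  [nat_lit 16, nat_lit 12, nat_lit 16, nat_lit 12],
  [nat_lit 16, nat_lit 13, nat_lit 16, nat_lit 13],
  [nat_lit 16, nat_lit 14, nat_lit 16, nat_lit 14],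
  [nat_lit 16, nat_lit 15, nat_lit 16, nat_lit 15]]

theorem cert : Cert T (R.map fun r => (r, 0)) ([3, 11, 12, 13].map fun y => (y, 0)) 18 13 [2, 3, 6, 11, 12, 13, 14, 15, 16] :=
  ⟨by decide +kernel, ⟨[[(0, 0), (9, 1), (14, 1), (20, 1), (27, 1)], [(5, 1), (10, 1), (15, 1), (21, 1), (28, 1)], [(1, 0), (16, 1), (22, 1), (29, 1)], [(6, 1), (11, 1), (17, 1), (23, 1), (30, 1)], [(7, 1), (12, 1), (18, 1), (24, 1), (31, 1)], [(8, 1), (13, 1), (19, 1), (25, 1), (32, 1)], [(2, 0), (26, 1), (33, 1)], [(3, 0), (34, 1)], [(4, 0)]], [], by decide +kernel⟩, by decide +kernel, Or.inl ⟨rfl, all⟩⟩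

theorem bound {Γ : Type*} [Group Γ] {x : ℕ → Γ} (hR : ∀ r ∈ R, ev x r = 1) {n : ℕ}
    (h : CardLe x [3, 11, 12, 13] n) : CardLe x [2, 3, 6, 11, 12, 13, 14, 15, 16] (32 * n) :=
  cert.cardLe rfl hR h

end Cfsg.Agent.H3.U62.Tc4
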